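import Mathlib
import Cfsg.Agent.CHAR.Central

/-!
# Blichfeldt's theorem on elements whose eigenvalues lie within sixty degrees of one of them
-/

set_option autoImplicit false

open Matrix
open scoped ComplexOrder MatrixOrder

namespace CL.Char.Blich

variable {n : Type*} [Fintype n] [DecidableEq n]

omit [DecidableEq n] in
theorem re_trace_pos {H Y : Matrix n n ℂ} (hH : H.PosDef) (hY : Y ≠ 0) :
    0 < (trace (Yᴴ * H * Y)).re := by
  have h1 := hH.posSemidef.conjTranspose_mul_mul_same Y
  have h2 := h1.trace_nonneg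
  refine lt_of_le_of_ne (Complex.le_def.1 h2).1 fun h => hY ?_
  have h3 : trace (Yᴴ * H * Y) = 0 := Complex.ext h.symm (Complex.le_def.1 h2).2.symm
  rw [h1.trace_eq_zero_iff] at h3
  ext i j
  by_contra hne
  have hx : (fun k => Y k j) ≠ 0 := fun e => hne (congrFun e i)
  have := hH.dotProduct_mulVec_pos hx
  have e : star (fun k => Y k j) ⬝ᵥ H *ᵥ (fun k => Y k j) = (Yᴴ * H * Y) j j := by
    rw [Matrix.mul_assoc]
    simp only [mul_apply, dotProduct, mulVec, conjTranspose_apply, Pi.star_apply]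
  rw [e, h3] at this
  exact lt_irrefl _ this

omit [DecidableEq n] in
theorem re_trace_nonneg (Z : Matrix n n ℂ) : 0 ≤ (trace (Z * Zᴴ)).re :=
  (Complex.le_def.1 (posSemidef_self_mul_conjTranspose Z).trace_nonneg).1

theorem lt_of_not_comm {D E A : Matrix n n ℂ} (hE : Eᴴ = E) (hEE : E * E = E) (hDE : D * E = E)
    (hED : E * D = E) (hA : Aᴴ = A) (hAA : A * A = A) (hH : (D + Dᴴ - 1).PosDef)
    (hne : E * A ≠ A * E) : (trace (E * A)).re < (trace (A * (D * A * Dᴴ))).re := by
  have hDE' : Dᴴ * E = E := by rw [← hE, ← conjTranspose_mul, hED]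
  have hED' : E * Dᴴ = E := by rw [← hE, ← conjTranspose_mul, hDE]
  have hY : (1 - E) * A * E ≠ 0 := fun h => hne (by
    have h1 : A * E = E * A * E := by rwa [sub_mul, sub_mul, Matrix.one_mul, sub_eq_zero] at h
    have h2 := congrArg conjTranspose h1
    simp only [conjTranspose_mul, hE, hA] at h2
    exact h2.trans (by rw [← Matrix.mul_assoc]; exact h1.symm))
  have h1 := re_trace_pos hH hY
  have h2 := re_trace_nonneg (A * (D - E) * A)
  have e1 : ((1 - E) * A * E)ᴴ * (D + Dᴴ - 1) * ((1 - E) * A * E) =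
      E * (A * D * A) * E + E * (A * Dᴴ * A) * E - E * A * E - E * (A * E * A) * E := by
    have : (1 - E) * (D + Dᴴ - 1) * (1 - E) = D + Dᴴ - 1 - E := by
      simp only [sub_mul, mul_sub, add_mul, mul_add, Matrix.one_mul, Matrix.mul_one, hDE, hED, hDE',
        hED', hEE]
      abel
    calc _ = E * A * ((1 - E) * (D + Dᴴ - 1) * (1 - E)) * A * E := by
          simp only [conjTranspose_mul, conjTranspose_sub, conjTranspose_one, hE, hA,
            Matrix.mul_assoc]
      _ = E * (A * D * A) * E + E * (A * Dᴴ * A) * E - E * (A * A) * E - E * (A * E * A) * E := by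
          rw [this]; noncomm_ring
      _ = _ := by rw [hAA]
  have e2 : A * (D - E) * A * (A * (D - E) * A)ᴴ =
      A * (D * A * Dᴴ) * A - A * (D * A * E) * A - A * (E * A * Dᴴ) * A + A * (E * A * E) * A := by
    calc _ = A * (D - E) * (A * A) * (Dᴴ - E) * A := by
          simp only [conjTranspose_mul, conjTranspose_sub, hE, hA, Matrix.mul_assoc]
      _ = _ := by rw [hAA]; noncomm_ring
  have t1 : ∀ X, trace (E * X * E) = trace (E * X) := fun X => by
    rw [trace_mul_cycle, hEE]
  have t2 : ∀ X, trace (A * X * A) = trace (A * X) := fun X => by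
    rw [trace_mul_cycle, hAA]
  rw [e1, trace_sub, trace_sub, trace_add, t1, t1, t1, t1] at h1
  rw [e2, trace_add, trace_sub, trace_sub, t2, t2, t2, t2] at h2
  have c1 : trace (A * (D * A * E)) = trace (E * (A * D * A)) := by
    rw [trace_mul_comm E]; simp only [Matrix.mul_assoc]
  have c2 : trace (A * (E * A * Dᴴ)) = trace (E * (A * Dᴴ * A)) := by
    rw [trace_mul_comm A]; simp only [Matrix.mul_assoc]
  have c3 : trace (A * (E * A * E)) = trace (E * (A * E * A)) := by
    rw [trace_mul_comm A]; simp only [Matrix.mul_assoc]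
  rw [c1, c2, c3] at h2
  simp only [Complex.add_re, Complex.sub_re] at h1 h2
  linarith

theorem mul_eq_of_comm {D A : Matrix n n ℂ} (hD : D * Dᴴ = 1) (hA : Aᴴ = A) (hAA : A * A = A)
    (hH : (D + Dᴴ - 1).PosDef) (hc : A * (Dᴴ * A * D) = Dᴴ * A * D * A) : D * A = A * D * A := by
  have hY : (1 - Dᴴ * A * D) * A = 0 := by
    by_contra hne
    have h1 := re_trace_pos hH hne
    have h2 := re_trace_nonneg ((1 - Dᴴ * A * D) * A)ᴴ
    have e0 : ((1 - Dᴴ * A * D) * A)ᴴ = (1 - Dᴴ * A * D) * A := by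
      simp only [conjTranspose_mul, conjTranspose_sub, conjTranspose_one, hA,
        conjTranspose_conjTranspose]
      rw [mul_sub, sub_mul, ← hc]
      simp only [Matrix.mul_assoc, Matrix.one_mul, Matrix.mul_one]
    have e1 : ((1 - Dᴴ * A * D) * A)ᴴ * D * ((1 - Dᴴ * A * D) * A) = 0 := by
      rw [e0]
      calc _ = (1 - Dᴴ * A * D) * (A * D * A - A * (D * Dᴴ) * A * D * A) := by noncomm_ring
        _ = 0 := by rw [hD, Matrix.mul_one, hAA, sub_self, Matrix.mul_zero]
    have e2 : ((1 - Dᴴ * A * D) * A)ᴴ * Dᴴ * ((1 - Dᴴ * A * D) * A) = 0 := by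
      generalize (1 - Dᴴ * A * D) * A = Y at e1
      have := congrArg conjTranspose e1
      rwa [conjTranspose_mul, conjTranspose_mul, conjTranspose_conjTranspose, ← Matrix.mul_assoc,
        conjTranspose_zero] at this
    rw [mul_sub, mul_add, sub_mul, add_mul, e1, e2, Matrix.mul_one, add_zero, zero_sub, trace_neg,
      Complex.neg_re] at h1
    rw [conjTranspose_conjTranspose] at h2
    linarith
  have := congrArg (D * ·) hY
  simp only [Matrix.mul_zero] at this
  rw [← sub_eq_zero, ← this]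
  calc _ = D * A - (D * Dᴴ) * A * D * A := by rw [hD, Matrix.one_mul]
    _ = _ := by noncomm_ring

theorem comm_of_comm {D A : Matrix n n ℂ} (hD : D * Dᴴ = 1) (hA : Aᴴ = A) (hAA : A * A = A)
    (hH : (D + Dᴴ - 1).PosDef) (hc : A * (D * A * Dᴴ) = D * A * Dᴴ * A) : D * A = A * D := by
  have hD' : Dᴴ * D = 1 := mul_eq_one_comm.1 hD
  have h1 := mul_eq_of_comm hD hA hAA hH (by
    calc _ = (Dᴴ * D) * A * Dᴴ * A * D := by rw [hD', Matrix.one_mul]; noncomm_ring
      _ = Dᴴ * (D * A * Dᴴ * A) * D := by noncomm_ring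
      _ = Dᴴ * A * D * A * (Dᴴ * D) := by rw [← hc]; noncomm_ring
      _ = _ := by rw [hD', Matrix.mul_one])
  have h2 := mul_eq_of_comm (D := Dᴴ) (by rwa [conjTranspose_conjTranspose]) hA hAA
    (by rwa [conjTranspose_conjTranspose, add_comm]) (by rwa [conjTranspose_conjTranspose])
  have h3 := congrArg conjTranspose h2
  simp only [conjTranspose_mul, hA, conjTranspose_conjTranspose] at h3
  exact h1.trans (by rw [Matrix.mul_assoc]; exact h3.symm)

variable {G : Type*} [Group G] [Finite G]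

theorem comm_of_mem_normalClosure (R : G →* Matrix n n ℂ) (hR : ∀ h, (R h)ᴴ = R h⁻¹) {g : G}
    {c : ℂ} (hc : c * star c = 1) {E : Matrix n n ℂ} (hE : Eᴴ = E) (hEE : E * E = E)
    (hDE : c • R g * E = E) (hED : E * c • R g = E)
    (hbi : ∀ X, c • R g * X = X * c • R g → E * X = X * E)
    (hH : (c • R g + (c • R g)ᴴ - 1).PosDef) {x : G} (hx : x ∈ Subgroup.normalClosure {g}) :
    R x * E = E * R x := by
  have hinv : ∀ h, R h⁻¹ * R h = 1 := fun h => by rw [← map_mul, inv_mul_cancel, map_one]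
  have hinv' : ∀ h, R h * R h⁻¹ = 1 := fun h => by rw [← map_mul, mul_inv_cancel, map_one]
  have hD : c • R g * (c • R g)ᴴ = 1 := by
    rw [conjTranspose_smul, hR, smul_mul_smul_comm, hc, hinv', one_smul]
  let A : G → Matrix n n ℂ := fun h => R h * E * R h⁻¹
  have hA : ∀ h, (A h)ᴴ = A h := fun h => by
    simp only [A, conjTranspose_mul, hR, hE, inv_inv, Matrix.mul_assoc]
  have hAA : ∀ h, A h * A h = A h := fun h => by
    calc _ = R h * E * (R h⁻¹ * R h) * E * R h⁻¹ := by simp only [A, Matrix.mul_assoc]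
      _ = _ := by rw [hinv, Matrix.mul_one, Matrix.mul_assoc (R h), hEE]
  have hDA : ∀ h, c • R g * A h * (c • R g)ᴴ = A (g * h) := fun h => by
    rw [conjTranspose_smul, hR, smul_mul_assoc, smul_mul_smul_comm, hc, one_smul]
    simp only [A, map_mul, _root_.mul_inv_rev, Matrix.mul_assoc]
  have hcj : ∀ h k, A h * A k = R h * (E * A (h⁻¹ * k)) * R h⁻¹ := fun h k => by
    simp only [A, map_mul, _root_.mul_inv_rev, inv_inv, Matrix.mul_assoc, hinv', Matrix.mul_one]
  have hcj' : ∀ h k, A k * A h = R h * (A (h⁻¹ * k) * E) * R h⁻¹ := fun h k => by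
    simp only [A, map_mul, _root_.mul_inv_rev, inv_inv, ← Matrix.mul_assoc, hinv', Matrix.one_mul]
  have hstep : ∀ h, E * A (h⁻¹ * (g * h)) = A (h⁻¹ * (g * h)) * E →
      c • R g * A h = A h * c • R g := fun h hh =>
    comm_of_comm hD (hA h) (hAA h) hH (by rw [hDA, hcj, hcj' h, hh])
  have hall : ∀ h, E * A h = A h * E := by
    by_contra hne
    push Not at hne
    obtain ⟨h, hh, hmax⟩ := Set.exists_max_image {h | E * A h ≠ A h * E}
      (fun h => (trace (E * A h)).re) (Set.toFinite _) hne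
    have h1 := lt_of_not_comm hE hEE hDE hED (hA h) (hAA h) hH hh
    rw [hDA, hcj, trace_mul_cycle, hinv, Matrix.one_mul] at h1
    exact hh (hbi _ (hstep h (by_contra fun h2 => (hmax _ h2).not_gt h1)))
  have hc0 : c ≠ 0 := left_ne_zero_of_mul_eq_one hc
  let K : Subgroup G :=
    { carrier := {x | R x * E = E * R x}
      one_mem' := by simp
      mul_mem' := fun {a b} ha hb => by
        change R (a * b) * E = E * R (a * b)
        rw [map_mul, Matrix.mul_assoc, hb, ← Matrix.mul_assoc, ha, Matrix.mul_assoc]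
      inv_mem' := fun {a} ha => by
        have := congrArg conjTranspose (show R a * E = E * R a from ha)
        rw [conjTranspose_mul, conjTranspose_mul, hR, hE] at this
        exact this.symm }
  refine (Subgroup.closure_le K).2 (fun y hy => ?_) hx
  obtain ⟨a, ha, hy'⟩ := Group.mem_conjugatesOfSet_iff.1 hy
  rw [Set.mem_singleton_iff.1 ha] at hy'
  obtain ⟨h, rfl⟩ := isConj_iff.1 hy'
  have h1 := hstep h⁻¹ (hall _)
  rw [smul_mul_assoc, mul_smul_comm, smul_right_inj hc0] at h1
  change R (h * _ * h⁻¹) * E = E * R (h * _ * h⁻¹)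
  have h2 := congrArg (fun X => R h * X * R h⁻¹) h1
  simp only [A, inv_inv, ← Matrix.mul_assoc, hinv', Matrix.one_mul] at h2
  simp only [Matrix.mul_assoc, hinv', Matrix.mul_one] at h2
  simpa only [map_mul, Matrix.mul_assoc] using h2

theorem exists_unitary (T : G →* Matrix n n ℂ) :
    ∃ S : (Matrix n n ℂ)ˣ, ∀ h, (S.val * T h * S⁻¹.val)ᴴ = S.val * T h⁻¹ * S⁻¹.val := by
  have := Fintype.ofFinite G
  have hH : (∑ h, (T h)ᴴ * T h).PosDef := by
    classical
    rw [← Finset.add_sum_erase _ _ (Finset.mem_univ 1), map_one, conjTranspose_one, Matrix.one_mul]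
    exact PosDef.one.add_posSemidef
      (posSemidef_sum _ fun h _ => posSemidef_conjTranspose_mul_self _)
  have hinv : ∀ k, (T k)ᴴ * (∑ h, (T h)ᴴ * T h) * T k = ∑ h, (T h)ᴴ * T h := fun k => by
    rw [Finset.mul_sum, Finset.sum_mul]
    refine Fintype.sum_equiv (Equiv.mulRight k) _ _ fun h => ?_
    simp only [Equiv.coe_mulRight, map_mul, conjTranspose_mul, Matrix.mul_assoc]
  set H := ∑ h, (T h)ᴴ * T h
  have hS : CFC.sqrt H * CFC.sqrt H = H := CFC.sqrt_mul_sqrt_self H hH.posSemidef.nonneg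
  have hS' : (CFC.sqrt H)ᴴ = CFC.sqrt H := (CFC.sqrt_nonneg H).posSemidef.isHermitian
  obtain ⟨S, hSu⟩ : IsUnit (CFC.sqrt H) := isUnit_of_mul_isUnit_left (hS.symm ▸ hH.isUnit)
  rw [← hSu] at hS hS'
  have hSi : S⁻¹.valᴴ = S⁻¹.val := by
    have := congrArg conjTranspose S.mul_inv
    rw [conjTranspose_mul, hS', conjTranspose_one] at this
    exact Units.eq_inv_of_mul_eq_one_right this
  refine ⟨S, fun h => ?_⟩
  have h1 : (S.val * T h * S⁻¹.val)ᴴ * (S.val * T h * S⁻¹.val) = 1 := by
    calc _ = S⁻¹.val * ((T h)ᴴ * (S.val * S.val) * T h) * S⁻¹.val := by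
          simp only [conjTranspose_mul, hS', hSi, Matrix.mul_assoc]
      _ = 1 := by rw [hS, hinv, ← hS, ← Matrix.mul_assoc, S.inv_mul, Matrix.one_mul, S.mul_inv]
  have h2 : (S.val * T h * S⁻¹.val) * (S.val * T h⁻¹ * S⁻¹.val) = 1 := by
    calc _ = S.val * (T h * (S⁻¹.val * S.val) * T h⁻¹) * S⁻¹.val := by
          simp only [Matrix.mul_assoc]
      _ = 1 := by
          rw [S.inv_mul, Matrix.mul_one, ← map_mul, mul_inv_cancel, map_one, Matrix.mul_one,
            S.mul_inv]
  exact left_inv_eq_right_inv h1 h2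

end CL.Char.Blich

namespace CL.Char
open Blich

/-- **Blichfeldt**: if the eigenvalues of `g` in an irreducible representation are all at an angle
less than sixty degrees from one of them and the conjugates of `g` generate `G`, then `g` acts as a
scalar. -/
theorem blichfeldt_sixty {G : Type*} [Group G] [Finite G] {V : Type*} [AddCommGroup V]
    [Module ℂ V] [FiniteDimensional ℂ V] (ρ : Representation ℂ G V) [ρ.IsIrreducible] {g : G}
    (hg : Subgroup.normalClosure {g} = ⊤) {n : Type*} [Fintype n] (b : Module.Basis n ℂ V)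
    (ε : n → ℂ) (hb : ∀ i, ρ g (b i) = ε i • b i) (i₀ : n)
    (h : ∀ i, 1 / 2 < (ε i / ε i₀).re) (i : n) : ε i = ε i₀ := by
  classical
  have hm : orderOf g ≠ 0 := (orderOf_pos g).ne'
  have hε : ∀ i, ε i ^ orderOf g = 1 := fun i => by
    have := pow_apply_of_eigen _ (hb i) (orderOf g)
    rw [rep_pow_orderOf, Module.End.one_apply] at this
    exact smul_left_injective ℂ (b.ne_zero i) (this.symm.trans (one_smul _ _).symm)
  have h0 : ε i₀ ≠ 0 := ne_zero_pow hm (by rw [hε]; exact one_ne_zero)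
  set δ : n → ℂ := fun i => ε i / ε i₀ with hδ
  have hδm : ∀ i, δ i ^ orderOf g = 1 := fun i => by simp [hδ, div_pow, hε]
  have hδc : ∀ i, star (δ i) = (δ i)⁻¹ := fun i => (inv_eq_conj_of_pow_eq_one hm (hδm i)).symm
  let T : G →* Matrix n n ℂ := (LinearMap.toMatrixAlgEquiv b).toMonoidHom.comp ρ
  have hTg : T g = diagonal ε := toMatrix_of_eigenbasis _ b ε hb
  obtain ⟨S, hS⟩ := exists_unitary T
  let φ : Matrix n n ℂ ≃ₐ[ℂ] Matrix n n ℂ := (MulSemiringAction.toAlgEquiv ℂ _ (ConjAct.toConjAct S))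
  let R : G →* Matrix n n ℂ := φ.toMonoidHom.comp T
  have hR : ∀ h, (R h)ᴴ = R h⁻¹ := hS
  have hD : (ε i₀)⁻¹ • R g = φ (diagonal δ) := by
    change (ε i₀)⁻¹ • φ (T g) = _
    rw [← map_smul, hTg, ← diagonal_smul]
    congr 2
    funext j
    simp [hδ, div_eq_inv_mul]
  have hc : (ε i₀)⁻¹ * star (ε i₀)⁻¹ = 1 := by
    rw [star_inv₀, show star (ε i₀) = (ε i₀)⁻¹ from (inv_eq_conj_of_pow_eq_one hm (hε i₀)).symm,
      inv_inv, inv_mul_cancel₀ h0]
  have hDD : (ε i₀)⁻¹ • R g * ((ε i₀)⁻¹ • R g)ᴴ = 1 := by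
    rw [conjTranspose_smul, hR, smul_mul_smul_comm, hc, ← map_mul, mul_inv_cancel, map_one,
      one_smul]
  have hδ0 : ∀ i, δ i ≠ 0 := fun i => ne_zero_pow hm (by rw [hδm]; exact one_ne_zero)
  have hD' : (φ (diagonal δ))ᴴ = φ (diagonal fun i => star (δ i)) := by
    rw [hD] at hDD
    refine (left_inv_eq_right_inv (a := φ (diagonal δ)) ?_ hDD).symm
    rw [← map_mul, diagonal_mul_diagonal, ← map_one φ, ← diagonal_one]
    congr 2
    funext j
    rw [hδc, inv_mul_cancel₀ (hδ0 j)]
  let e : n → ℂ := fun j => if δ j = 1 then 1 else 0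
  have he : diagonal e = (orderOf g : ℂ)⁻¹ • ∑ k ∈ Finset.range (orderOf g), diagonal δ ^ k := by
    have hs : ∑ k ∈ Finset.range (orderOf g), diagonal δ ^ k =
        diagonal (∑ k ∈ Finset.range (orderOf g), δ ^ k) := by
      simp only [diagonal_pow]
      exact (map_sum (diagonalAddMonoidHom n ℂ) _ _).symm
    rw [hs, ← diagonal_smul]
    congr 1
    funext j
    simp only [e, Pi.smul_apply, Finset.sum_apply, Pi.pow_apply, smul_eq_mul]
    split_ifs with hj
    · simp [hj, hm]
    · rw [geom_sum_eq hj, hδm, sub_self, zero_div, mul_zero]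
  have hde : diagonal δ * diagonal e = diagonal e := by
    rw [diagonal_mul_diagonal]; congr 1; funext j; simp only [e]; split_ifs with hj <;> simp [hj]
  have hed : diagonal e * diagonal δ = diagonal e := by
    rw [diagonal_mul_diagonal]; congr 1; funext j; simp only [e]; split_ifs with hj <;> simp [hj]
  have hbi : ∀ X, φ (diagonal δ) * X = X * φ (diagonal δ) →
      φ (diagonal e) * X = X * φ (diagonal e) := fun X hX => by
    rw [he, map_smul, map_sum, smul_mul_assoc, mul_smul_comm, Finset.sum_mul, Finset.mul_sum]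
    congr 1
    refine Finset.sum_congr rfl fun k _ => ?_
    rw [map_pow]
    exact (Commute.pow_left hX k).eq
  have hE : (φ (diagonal e))ᴴ = φ (diagonal e) := by
    have he' : diagonal e = (orderOf g : ℂ)⁻¹ • ∑ k ∈ Finset.range (orderOf g),
        (diagonal fun i => star (δ i)) ^ k := by
      have := congrArg conjTranspose he
      rw [diagonal_conjTranspose, conjTranspose_smul, conjTranspose_sum] at this
      simp only [conjTranspose_pow, diagonal_conjTranspose] at this
      have s1 : star e = e := by funext j; simp only [e, Pi.star_apply]; split_ifs <;> simp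
      have s2 : star (orderOf g : ℂ)⁻¹ = (orderOf g : ℂ)⁻¹ := by simp
      rw [s1, s2] at this
      exact this
    conv_rhs => rw [he']
    rw [he, map_smul, map_sum, map_smul, map_sum, conjTranspose_smul, conjTranspose_sum]
    simp only [map_pow, conjTranspose_pow, hD']
    simp
  have hH : (φ (diagonal δ) + (φ (diagonal δ))ᴴ - 1).PosDef := by
    have hh : (φ (diagonal δ) + (φ (diagonal δ))ᴴ - 1).IsHermitian :=
      (isHermitian_add_transpose_self _).sub isHermitian_one
    have e1 : φ (diagonal δ) + (φ (diagonal δ))ᴴ - 1 =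
        φ (diagonal fun i => ((2 * (δ i).re - 1 : ℝ) : ℂ)) := by
      rw [hD', ← map_one φ, ← map_add, ← map_sub, ← diagonal_one, diagonal_add, diagonal_sub]
      congr 2
      funext j
      rw [show star (δ j) = (starRingEnd ℂ) (δ j) from rfl, Complex.add_conj]
      push_cast; ring
    rw [PosSemidef.posDef_iff_isUnit]
    · rw [e1]
      refine IsUnit.map φ ((isUnit_diagonal).2 (Pi.isUnit_iff.2 fun j => Ne.isUnit ?_))
      have := h j
      exact_mod_cast (by linarith : (2 * (δ j).re - 1 : ℝ) ≠ 0)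
    · refine posSemidef_iff_isHermitian_and_spectrum_nonneg.2 ⟨hh, ?_⟩
      rw [e1, AlgEquiv.spectrum_eq, spectrum_diagonal]
      rintro _ ⟨j, rfl⟩
      have := h j
      change (0 : ℂ) ≤ ((2 * (δ j).re - 1 : ℝ) : ℂ)
      exact_mod_cast (by linarith : 0 ≤ (2 * (δ j).re - 1 : ℝ))
  have hcomm : ∀ x, T x * diagonal e = diagonal e * T x := fun x => φ.injective (by
    rw [map_mul, map_mul]
    refine comm_of_mem_normalClosure R hR hc hE ?_ ?_ ?_ ?_ ?_ (hg ▸ Subgroup.mem_top x)
    · rw [← map_mul, diagonal_mul_diagonal]; congr 2; funext j; simp only [e]; split_ifs <;> simp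
    · rw [hD, ← map_mul, hde]
    · rw [hD, ← map_mul, hed]
    · rw [hD]; exact hbi
    · rw [hD]; exact hH)
  obtain ⟨c, hc'⟩ := schur_scalar ρ ((LinearMap.toMatrixAlgEquiv b).symm (diagonal e)) fun x =>
    (LinearMap.toMatrixAlgEquiv b).injective (by
      rw [map_mul, map_mul, AlgEquiv.apply_symm_apply]; exact (hcomm x).symm)
  rw [AlgEquiv.symm_apply_eq, map_smul, map_one] at hc'
  have h1 := congrFun (congrFun hc' i) i
  have h2 := congrFun (congrFun hc' i₀) i₀
  simp only [diagonal_apply_eq, Matrix.smul_apply, one_apply_eq, smul_eq_mul, mul_one, e] at h1 h2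
  rw [if_pos (by simp [hδ, h0])] at h2
  rw [← h2] at h1
  have h3 : δ i = 1 := by by_contra hne; simp [hne] at h1
  exact (div_eq_one_iff_eq h0).1 h3

end CL.Char
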